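-- Team project OELM (S5990, helper58), regime [R2E] (helper12), package [NECELTM] (helper53):
-- characteristic 2, `k` even: the involution `1 + N` of `Ω⁻_{2k+2}(q)`, where `N` sends the
-- `f`-coordinate `σ a` to the `e`-coordinate `a` (`σ` a fixed-point-free involution of `Fin k`);
-- it is of a-type and the nondegenerate subspaces of its fixed space have dimension at most 2.
import Mathlib
import Cfsg.Agent.Lib.Helper12.OElmE.Defs
import Cfsg.Agent.Lib.Helper99.NsLine
import Cfsg.Agent.Lib.Helper44.Char2Forms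

set_option autoImplicit false
open scoped MatrixGroups
open Matrix

namespace Cfsg.Agent.Lib.Helper53.OElmE

open Cfsg.Agent.Lib.Helper23.OHyp Cfsg.Agent.Lib.Helper44.OElp Cfsg.Agent.Lib.Helper64.OParM
open Cfsg.Agent.Lib.Helper58.OElm Cfsg.Agent.Lib.Helper12.PHyp Cfsg.Agent.Lib.Helper12.OElmE

universe u

/-- The nilpotent part: the `e`-coordinate `a` receives the `f`-coordinate `σ a`. -/
def nilM (F : Type u) [Field F] {k : ℕ} (σ : Fin k → Fin k) : (MI k → F) →ₗ[F] (MI k → F) where
  toFun v := Sum.elim (Sum.elim (fun a => v (Sum.inl (Sum.inr (σ a)))) 0) 0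
  map_add' := by
    intro v w
    funext i
    rcases i with (i | i) | i <;> simp
  map_smul' := by
    intro c v
    funext i
    rcases i with (i | i) | i <;> simp

/-- [NECELTM] -/
theorem pkgNecEltM : PkgNecEltM.{u} := by
  intro F _ _ h2 k a b hab hk hev
  classical
  have hσ : ∃ σ : Fin k → Fin k, (∀ i, σ (σ i) = i) ∧ ∀ i, σ i ≠ i := by
    have hev' := hev
    obtain ⟨k', hk'⟩ := hev'
    refine ⟨fun i => if h : i.val % 2 = 0 then ⟨i.val + 1, by have := i.2; omega⟩
      else ⟨i.val - 1, by have := i.2; omega⟩, ?_, ?_⟩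
    · intro i
      apply Fin.ext
      by_cases h : i.val % 2 = 0
      · have h' : ¬ (i.val + 1) % 2 = 0 := by omega
        simp only [h, dite_true, h', dite_false]
        omega
      · have h' : (i.val - 1) % 2 = 0 := by omega
        simp only [h, dite_false, h', dite_true]
        omega
    · intro i h
      have h1 := congrArg Fin.val h
      by_cases h' : i.val % 2 = 0
      · simp only [h', dite_true] at h1
        omega
      · simp only [h', dite_false] at h1
        omega
  obtain ⟨σ, hσ2, hσ1⟩ := hσ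
  have h11 : ∀ c : F, c + c = 0 := fun c => by rw [← two_mul, h2, zero_mul]
  obtain ⟨N, hN⟩ : ∃ N : (MI k → F) →ₗ[F] (MI k → F), N = nilM F σ := ⟨_, rfl⟩
  have hNe : ∀ (v : MI k → F) (c : Fin k),
      N v (Sum.inl (Sum.inl c)) = v (Sum.inl (Sum.inr (σ c))) := by
    intro v c
    rw [hN]
    rfl
  have hNf : ∀ (v : MI k → F) (c : Fin k), N v (Sum.inl (Sum.inr c)) = 0 := by
    intro v c
    rw [hN]
    rfl
  have hNz : ∀ (v : MI k → F) (j : Fin 2), N v (Sum.inr j) = 0 := by
    intro v j
    rw [hN]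
    rfl
  have hNN : ∀ v, N (N v) = 0 := by
    intro v
    funext i
    rcases i with (i | i) | i
    · rw [hNe, hNf]
      rfl
    · rw [hNf]
      rfl
    · rw [hNz]
      rfl
  obtain ⟨T, hT⟩ : ∃ T : (MI k → F) →ₗ[F] (MI k → F), T = LinearMap.id + N := ⟨_, rfl⟩
  have hTv : ∀ v, T v = v + N v := by
    intro v
    rw [hT]
    rfl
  have hTT : T ∘ₗ T = LinearMap.id := by
    apply LinearMap.ext
    intro v
    rw [LinearMap.comp_apply, hTv, hTv, map_add, hNN, add_zero, LinearMap.id_apply, add_assoc]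
    have h0 : N v + N v = 0 := by
      funext i
      exact h11 _
    rw [h0, add_zero]
  obtain ⟨M, hM⟩ : ∃ M : Matrix (MI k) (MI k) F, M = LinearMap.toMatrix' T := ⟨_, rfl⟩
  have hMM : M * M = 1 := by
    rw [hM, ← LinearMap.toMatrix'_comp, hTT, LinearMap.toMatrix'_id]
  have hMv : ∀ v, M *ᵥ v = v + N v := by
    intro v
    rw [hM, LinearMap.toMatrix'_mulVec, hTv]
  have hM1 : (M - 1).mulVecLin = N := by
    apply LinearMap.ext
    intro v
    rw [Matrix.mulVecLin_apply, Matrix.sub_mulVec, Matrix.one_mulVec, hMv, add_sub_cancel_left]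
  have halt : ∀ f : Fin k → F, ∑ i, f (σ i) * f i = 0 := by
    intro f
    apply Finset.sum_involution (fun i _ => σ i)
    · intro i _
      rw [hσ2]
      linear_combination (f i * f (σ i)) * h2
    · intro i _ _
      exact hσ1 i
    · intro i _
      exact Finset.mem_univ _
    · intro i _
      exact hσ2 i
  have hiso : ∀ u, Cfsg.quadFormMinus k F a b (M *ᵥ u) = Cfsg.quadFormMinus k F a b u := by
    intro u
    rw [hMv]
    unfold Cfsg.quadFormMinus
    simp only [Pi.add_apply, hNe, hNf, hNz, add_zero]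
    have h := halt (fun i => u (Sum.inl (Sum.inr i)))
    simp only [add_mul, Finset.sum_add_distrib]
    rw [h, add_zero]
  have hA : AType (Cfsg.quadFormMinus k F a b) M ⊤ := by
    intro v _
    unfold QuadraticMap.polar
    rw [hiso v]
    have hf : ∀ i : Fin k, (v + M *ᵥ v) (Sum.inl (Sum.inr i)) = 0 := by
      intro i
      rw [hMv]
      simp only [Pi.add_apply, hNf, add_zero]
      exact h11 _
    have hz : ∀ j : Fin 2, (v + M *ᵥ v) (Sum.inr j) = 0 := by
      intro j
      rw [hMv]
      simp only [Pi.add_apply, hNz, add_zero]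
      exact h11 _
    have hq : Cfsg.quadFormMinus k F a b (v + M *ᵥ v) = 0 := by
      unfold Cfsg.quadFormMinus
      simp only [hf, hz, mul_zero, Finset.sum_const_zero, zero_add]
      ring
    rw [hq]
    have h := h11 (Cfsg.quadFormMinus k F a b v)
    linear_combination -h
  have hne : M ≠ 1 := by
    intro h1
    have hk0 : 0 < k := by omega
    have h3 := congrFun (hMv (Pi.single (Sum.inl (Sum.inr (σ ⟨0, hk0⟩))) 1))
      (Sum.inl (Sum.inl ⟨0, hk0⟩))
    rw [h1, Matrix.one_mulVec] at h3
    simp only [Pi.add_apply, hNe] at h3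
    simp at h3
  have hrank : (M - 1).rank = k := by
    unfold Matrix.rank
    rw [hM1]
    obtain ⟨ιx, hιx⟩ : ∃ ιx : (Fin k → F) →ₗ[F] (MI k → F),
        ∀ x, ιx x = Sum.elim (Sum.elim x 0) 0 :=
      ⟨{ toFun := fun x => Sum.elim (Sum.elim x 0) 0
         map_add' := by
           intro x y
           funext i
           rcases i with (i | i) | i <;> simp
         map_smul' := by
           intro c x
           funext i
           rcases i with (i | i) | i <;> simp }, fun x => rfl⟩
    obtain ⟨π, hπ⟩ : ∃ π : (MI k → F) →ₗ[F] (Fin k → F),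
        ∀ v, π v = fun c => v (Sum.inl (Sum.inr (σ c))) :=
      ⟨{ toFun := fun v c => v (Sum.inl (Sum.inr (σ c)))
         map_add' := fun _ _ => rfl
         map_smul' := fun _ _ => rfl }, fun v => rfl⟩
    have hNeq : N = ιx ∘ₗ π := by
      apply LinearMap.ext
      intro v
      rw [LinearMap.comp_apply, hιx, hπ, hN]
      rfl
    have hπtop : LinearMap.range π = ⊤ := by
      rw [LinearMap.range_eq_top]
      intro w
      refine ⟨Sum.elim (Sum.elim 0 (fun c => w (σ c))) 0, ?_⟩
      rw [hπ]
      funext c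
      show w (σ (σ c)) = w c
      rw [hσ2]
    have hι : Function.Injective ιx := by
      intro x y hxy
      funext i
      have h := congrFun hxy (Sum.inl (Sum.inl i))
      rw [hιx, hιx] at h
      exact h
    rw [hNeq, LinearMap.range_comp, hπtop, Submodule.map_top, LinearMap.finrank_range_of_inj hι,
      Module.finrank_fin_fun]
  have hMem : (⟨M, M, hMM, hMM⟩ : GL (MI k) F) ∈
      Cfsg.Geo.omegaGL (Cfsg.quadFormMinus k F a b) := by
    apply Cfsg.Agent.Lib.Helper99.nsl_mem_omega h2 _ (Cfsg.Agent.Lib.Helper14.minusQF k F a b)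
      (Cfsg.Agent.Lib.Helper14.minusQF_coe k F a b)
      (Cfsg.Agent.Lib.Helper44.minusQF_nondegenerate_all k F a b hab)
      (Or.inr (by simp only [Fintype.card_sum, Fintype.card_fin]; omega)) _ hiso
    show Even (M - 1).rank
    rw [hrank]
    exact hev
  refine ⟨⟨M, M, hMM, hMM⟩, hMem, hMM, fun h => hne (congrArg Units.val h), hA, ?_⟩
  intro W' hW' hNd
  have hfix : ∀ w ∈ W', ∀ c : Fin k, w (Sum.inl (Sum.inr c)) = 0 := by
    intro w hw c
    have h1 : w ∈ fixSp M := hW' hw
    unfold fixSp at h1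
    rw [LinearMap.mem_ker, LinearMap.sub_apply, Matrix.toLin'_apply, hMv] at h1
    have h1' : w + N w - w = 0 := h1
    rw [add_sub_cancel_left] at h1'
    have h4 := congrFun h1' (Sum.inl (Sum.inl (σ c)))
    rw [hNe, hσ2] at h4
    exact h4
  obtain ⟨ρ, hρdef⟩ : ∃ ρ : W' →ₗ[F] (Fin 2 → F),
      ∀ w : W', ρ w = fun j => (w : MI k → F) (Sum.inr j) :=
    ⟨{ toFun := fun w j => (w : MI k → F) (Sum.inr j)
       map_add' := fun _ _ => rfl
       map_smul' := fun _ _ => rfl }, fun w => rfl⟩
  have hρ : Function.Injective ρ := by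
    rw [← LinearMap.ker_eq_bot, LinearMap.ker_eq_bot']
    intro w hw
    by_contra hw0
    have hw0' : (w : MI k → F) ≠ 0 := fun h => hw0 (Subtype.ext h)
    obtain ⟨⟨y, hy, hpol⟩, -⟩ := hNd w w.2 hw0'
    apply hpol
    rw [hρdef] at hw
    have hwz : ∀ j : Fin 2, (w : MI k → F) (Sum.inr j) = 0 := fun j => congrFun hw j
    have hwf := hfix w w.2
    have hyf := hfix y hy
    unfold QuadraticMap.polar Cfsg.quadFormMinus
    simp only [Pi.add_apply, hwz, hwf, hyf, add_zero, mul_zero, Finset.sum_const_zero]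
    ring
  have h5 := LinearMap.finrank_le_finrank_of_injective hρ
  rw [Module.finrank_fin_fun] at h5
  exact h5

end Cfsg.Agent.Lib.Helper53.OElmE
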